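import Groth.Agent.TorLib.Basic
import Groth.Prelude.Def_Coh
import Mathlib.Algebra.Category.ModuleCat.Sheaf.ChangeOfRings
import Mathlib.Algebra.Category.ModuleCat.Stalk
import Mathlib

/-!
# Modules over a sheaf of algebras with simple generic stalk
-/

set_option autoImplicit false
set_option linter.style.haveILetI false
set_option backward.isDefEq.respectTransparency false
set_option backward.isDefEq.respectTransparency.types false

universe u

open CategoryTheory CategoryTheory.Limits AlgebraicGeometry TopologicalSpace Opposite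

namespace Groth.Agent.OrdSimple

variable {X : Scheme.{u}} {A : Sheaf (Opens.grothendieckTopology X) RingCat.{u}} {M N : SheafOfModules.{u} A}

/-- The additive map on stalks. -/
noncomputable def stalkFun (ψ : M ⟶ N) (x : X) :
    ↑(TopCat.Presheaf.stalk (C := Ab.{u}) (X := X.carrier) M.val.presheaf x) →+
      ↑(TopCat.Presheaf.stalk (C := Ab.{u}) (X := X.carrier) N.val.presheaf x) :=
  ((TopCat.Presheaf.stalkFunctor Ab.{u} (X := X.carrier) x).map ((PresheafOfModules.toPresheaf _).map ψ.val)).hom

theorem stalkFun_germ (ψ : M ⟶ N) (U : X.Opens) (x : X) (hx : x ∈ U) (m : M.val.obj (op U)) :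
    stalkFun ψ x (TopCat.Presheaf.germ (C := Ab.{u}) (X := X.carrier) M.val.presheaf U x hx m) =
      TopCat.Presheaf.germ (C := Ab.{u}) (X := X.carrier) N.val.presheaf U x hx ((ψ.val.app (op U)).hom m) :=
  TopCat.Presheaf.stalkFunctor_map_germ_apply U x hx ((PresheafOfModules.toPresheaf _).map ψ.val) m

theorem stalk_smul (ψ : M ⟶ N) (V : X.Opens) (x : X) (hx : x ∈ V) (r : A.obj.obj (op V)) (m : M.val.obj (op V)) :
    stalkFun ψ x (TopCat.Presheaf.germ (C := RingCat.{u}) (X := X.carrier) A.obj V x hx r •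
          TopCat.Presheaf.germ (C := Ab.{u}) (X := X.carrier) M.val.presheaf V x hx m) =
      TopCat.Presheaf.germ (C := RingCat.{u}) (X := X.carrier) A.obj V x hx r •
        stalkFun ψ x (TopCat.Presheaf.germ (C := Ab.{u}) (X := X.carrier) M.val.presheaf V x hx m) := by
  refine ((congrArg _ (PresheafOfModules.germ_ringCat_smul M.val x V hx r m).symm).trans
    (stalkFun_germ ψ V x hx _)).trans ?_
  refine (congrArg _ ((ψ.val.app (op V)).hom.map_smul r m)).trans ?_
  refine (PresheafOfModules.germ_ringCat_smul N.val x V hx r _).trans ?_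
  exact congrArg _ (stalkFun_germ ψ V x hx m).symm

/-- The map induced on stalks by a morphism of modules, linear over the stalk of the algebra. -/
noncomputable def stalkHom (ψ : M ⟶ N) (x : X) :
    ↑(TopCat.Presheaf.stalk (C := Ab.{u}) (X := X.carrier) M.val.presheaf x) →ₗ[
      ↑(TopCat.Presheaf.stalk (C := RingCat.{u}) (X := X.carrier) A.obj x)]
    ↑(TopCat.Presheaf.stalk (C := Ab.{u}) (X := X.carrier) N.val.presheaf x) where
  toFun := stalkFun ψ x
  map_add' := map_add _
  map_smul' a v := by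
    obtain ⟨U, hU, r, rfl⟩ := TopCat.Presheaf.exists_germ_eq (C := RingCat.{u}) (X := X.carrier) A.obj a
    obtain ⟨W, hW, m, rfl⟩ := TopCat.Presheaf.exists_germ_eq (C := Ab.{u}) (X := X.carrier) M.val.presheaf v
    have hx : x ∈ U ⊓ W := ⟨hU, hW⟩
    rw [← TopCat.Presheaf.germ_res_apply (C := RingCat.{u}) (X := X.carrier) A.obj (homOfLE (inf_le_left : U ⊓ W ≤ U)) x hx r,
      ← TopCat.Presheaf.germ_res_apply (C := Ab.{u}) (X := X.carrier) M.val.presheaf (homOfLE (inf_le_right : U ⊓ W ≤ W)) x hx m,
      RingHom.id_apply]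
    exact stalk_smul ψ (U ⊓ W) x hx _ _

theorem stalkHom_germ (ψ : M ⟶ N) (U : X.Opens) (x : X) (hx : x ∈ U) (m : M.val.obj (op U)) :
    stalkHom ψ x (TopCat.Presheaf.germ (C := Ab.{u}) (X := X.carrier) M.val.presheaf U x hx m) =
      TopCat.Presheaf.germ (C := Ab.{u}) (X := X.carrier) N.val.presheaf U x hx ((ψ.val.app (op U)).hom m) :=
  stalkFun_germ ψ U x hx m

/-- A morphism is zero when all its components are. -/
theorem hom_eq_zero (ψ : M ⟶ N) (h : ∀ (U : (Opens X)ᵒᵖ) (m : M.val.obj U), (ψ.val.app U).hom m = 0) : ψ = 0 :=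
  SheafOfModules.hom_ext (PresheafOfModules.hom_ext fun U => ModuleCat.hom_ext (LinearMap.ext fun m => h U m))

/-- A morphism with injective components is a monomorphism. -/
theorem mono_of_injective (ψ : M ⟶ N) (h : ∀ U : (Opens X)ᵒᵖ, Function.Injective (ψ.val.app U).hom) : Mono ψ := by
  refine ⟨fun {W} a b hab => SheafOfModules.hom_ext (PresheafOfModules.hom_ext fun U =>
    ModuleCat.hom_ext (LinearMap.ext fun m => h U ?_))⟩
  exact LinearMap.congr_fun (congrArg ModuleCat.Hom.hom (congrArg (fun c : W ⟶ N => c.val.app U) hab)) m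

section Generic

variable [IsIntegral X] (φ : X.ringCatSheaf ⟶ A)

/-- Sections of a torsion-free quasi-coherent module vanish when their generic germ does. -/
theorem eq_zero_of_generic (hMc : Coh.IsCoh (X := X) ((SheafOfModules.restrictScalars φ).obj M))
    (hMt : TorSh.IsTorsionFree (X := X) ((SheafOfModules.restrictScalars φ).obj M))
    {U : X.Opens} (hξ : genericPoint X ∈ U) (m : M.val.obj (op U))
    (h : TopCat.Presheaf.germ (C := Ab.{u}) (X := X.carrier) M.val.presheaf U (genericPoint X) hξ m = 0) : m = 0 :=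
  TorLib.eq_zero_of_germ_genericPoint (F := ((SheafOfModules.restrictScalars φ).obj M : X.Modules)) hMc.1 hMt hξ m h

theorem eq_zero_of_bot (m : M.val.obj (op (⊥ : X.Opens))) : m = 0 := by
  refine TopCat.Presheaf.section_ext (C := Ab.{u}) (X := X.carrier) ⟨M.val.presheaf, M.isSheaf⟩ ⊥ m 0 ?_
  intro z hz
  exact hz.elim

theorem genericPoint_mem_or (U : X.Opens) : genericPoint X ∈ U ∨ U = ⊥ := by
  by_cases hU : U = ⊥
  · exact Or.inr hU
  · obtain ⟨z, hz⟩ := (TopologicalSpace.Opens.ne_bot_iff_nonempty U).1 hU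
    exact Or.inl (TorLib.genericPoint_mem hz)

theorem injective_of_stalkHom (hMc : Coh.IsCoh (X := X) ((SheafOfModules.restrictScalars φ).obj M))
    (hMt : TorSh.IsTorsionFree (X := X) ((SheafOfModules.restrictScalars φ).obj M))
    (ψ : M ⟶ N) (h : Function.Injective (stalkHom ψ (genericPoint X))) (U : (Opens X)ᵒᵖ) :
    Function.Injective (ψ.val.app U).hom := by
  obtain ⟨U⟩ := U
  refine (injective_iff_map_eq_zero _).2 fun m hm => ?_
  rcases genericPoint_mem_or U with hξ | rfl
  · refine eq_zero_of_generic φ hMc hMt hξ m (h ?_)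
    rw [map_zero, stalkHom_germ, hm]
    exact map_zero (TopCat.Presheaf.germ (C := Ab.{u}) (X := X.carrier) N.val.presheaf U (genericPoint X) hξ).hom
  · exact eq_zero_of_bot m

theorem eq_zero_of_stalkHom (hNc : Coh.IsCoh (X := X) ((SheafOfModules.restrictScalars φ).obj N))
    (hNt : TorSh.IsTorsionFree (X := X) ((SheafOfModules.restrictScalars φ).obj N))
    (ψ : M ⟶ N) (h : stalkHom ψ (genericPoint X) = 0) : ψ = 0 := by
  refine hom_eq_zero ψ fun U m => ?_
  obtain ⟨U⟩ := U
  rcases genericPoint_mem_or U with hξ | rfl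
  · refine eq_zero_of_generic φ hNc hNt hξ _ ?_
    rw [← stalkHom_germ, h, LinearMap.zero_apply]
  · exact eq_zero_of_bot _

/-- A morphism out of a module with simple generic stalk is zero or a monomorphism. -/
theorem eq_zero_or_mono (hMc : Coh.IsCoh (X := X) ((SheafOfModules.restrictScalars φ).obj M))
    (hMt : TorSh.IsTorsionFree (X := X) ((SheafOfModules.restrictScalars φ).obj M))
    (hNc : Coh.IsCoh (X := X) ((SheafOfModules.restrictScalars φ).obj N))
    (hNt : TorSh.IsTorsionFree (X := X) ((SheafOfModules.restrictScalars φ).obj N))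
    [IsSimpleModule (↑(TopCat.Presheaf.stalk (C := RingCat.{u}) (X := X.carrier) A.obj (genericPoint X)))
      (↑(TopCat.Presheaf.stalk (C := Ab.{u}) (X := X.carrier) M.val.presheaf (genericPoint X)))]
    (ψ : M ⟶ N) : ψ = 0 ∨ Mono ψ :=
  (LinearMap.injective_or_eq_zero (stalkHom ψ (genericPoint X))).symm.imp
    (eq_zero_of_stalkHom φ hNc hNt ψ) fun h => mono_of_injective ψ (injective_of_stalkHom φ hMc hMt ψ h)

end Generic

end Groth.Agent.OrdSimple
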