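import Groth.Agent.OrdSimple.Basic
import Groth.Agent.ASB24.FiniteHom
import Mathlib

/-!
# Endomorphisms of a module with simple generic stalk are scalars
-/

set_option autoImplicit false
set_option linter.style.haveILetI false
set_option backward.isDefEq.respectTransparency false
set_option backward.isDefEq.respectTransparency.types false

universe u

open CategoryTheory CategoryTheory.Limits AlgebraicGeometry TopologicalSpace Opposite

namespace Groth.Agent.OrdSimple

variable {k : Type u} [Field k] {X : Scheme.{u}} [X.Over (Spec (CommRingCat.of k))]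
  {A : Sheaf (Opens.grothendieckTopology X) RingCat.{u}} (φ : X.ringCatSheaf ⟶ A)
  (hcen : ∀ (U : (Opens X)ᵒᵖ) (s : X.ringCatSheaf.obj.obj U) (a : A.obj.obj U),
      φ.hom.app U s * a = a * φ.hom.app U s)

/-- A constant, as a section. -/
noncomputable def cst (c : k) (U : (Opens X)ᵒᵖ) : Γ(X, U.unop) :=
  X.presheaf.map (homOfLE (le_top : U.unop ≤ ⊤)).op (Coh.toGlobal (X ↘ Spec (CommRingCat.of k)) c)

theorem cst_res (c : k) {U V : (Opens X)ᵒᵖ} (i : U ⟶ V) : X.presheaf.map i (cst c U) = cst c V := by
  rw [cst, cst, ← CategoryTheory.comp_apply, ← Functor.map_comp]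
  rfl

include hcen in
/-- Multiplication by a scalar, as an endomorphism of a module over the algebra. -/
theorem exists_scalarHom (M : SheafOfModules.{u} A) (c : k) :
    ∃ σ : M ⟶ M, ∀ (U : (Opens X)ᵒᵖ) (m : M.val.obj U), (σ.val.app U).hom m = φ.hom.app U (cst c U) • m := by
  let comp : ∀ U : (Opens X)ᵒᵖ, M.val.obj U ⟶ M.val.obj U := fun U => ModuleCat.ofHom
    { toFun := fun m => φ.hom.app U (cst c U) • m
      map_add' := fun m m' => smul_add _ _ _
      map_smul' := fun a m => by
        rw [RingHom.id_apply, ← mul_smul, ← mul_smul, hcen U (cst c U) a] }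
  refine ⟨⟨{ app := comp, naturality := fun {U V} i => ?_ }⟩, fun U m => rfl⟩
  refine ModuleCat.hom_ext (LinearMap.ext fun m => ?_)
  show φ.hom.app V (cst c V) • (M.val.map i).hom m = (M.val.map i).hom (φ.hom.app U (cst c U) • m)
  refine Eq.trans ?_ (PresheafOfModules.map_smul M.val i _ _).symm
  congr 1
  rw [← cst_res c i]
  exact ConcreteCategory.congr_hom (φ.hom.naturality i) (cst c U)

variable [IsIntegral X]

include hcen in
/-- Endomorphisms are scalars. -/
theorem exists_eq_smul [IsAlgClosed k] [IsProper (X ↘ Spec (CommRingCat.of k))] (M : SheafOfModules.{u} A)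
    (hMc : Coh.IsCoh (X := X) ((SheafOfModules.restrictScalars φ).obj M))
    (hMt : TorSh.IsTorsionFree (X := X) ((SheafOfModules.restrictScalars φ).obj M))
    [IsSimpleModule (↑(TopCat.Presheaf.stalk (C := RingCat.{u}) (X := X.carrier) A.obj (genericPoint X)))
      (↑(TopCat.Presheaf.stalk (C := Ab.{u}) (X := X.carrier) M.val.presheaf (genericPoint X)))]
    (ψ : M ⟶ M) : ∃ c : k, ∀ (U : (Opens X)ᵒᵖ) (m : M.val.obj U),
      (ψ.val.app U).hom m = φ.hom.app U (cst c U) • m := by
  let M' : X.Modules := (SheafOfModules.restrictScalars φ).obj M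
  let f : End M' := (SheafOfModules.restrictScalars φ).map ψ
  haveI : Module.Finite k (End M') := ASB24.finite_hom hMc hMc
  rcases subsingleton_or_nontrivial (End M') with hs | hn
  · refine ⟨0, fun U m => ?_⟩
    have hm : ∀ x : M.val.obj U, x = 0 := fun x => by
      have h1 : ((𝟙 M' : M' ⟶ M').app U.unop) x = ((0 : M' ⟶ M').app U.unop) x :=
        congrArg (fun g : M' ⟶ M' => g.app U.unop x) (Subsingleton.elim (α := End M') (𝟙 M') 0)
      exact h1
    rw [hm m, map_zero, smul_zero]
  have hint : IsIntegral k f := IsIntegral.of_finite k f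
  obtain ⟨c, hc⟩ := IsAlgClosed.exists_root (minpoly k f) (minpoly.degree_pos hint).ne'
  obtain ⟨Q, hQ⟩ := Polynomial.dvd_iff_isRoot.2 hc
  obtain ⟨σ, hσ⟩ := exists_scalarHom φ hcen M c
  refine ⟨c, ?_⟩
  rcases eq_zero_or_mono φ hMc hMt hMc hMt (ψ - σ) with h | h
  · intro U m
    rw [sub_eq_zero] at h
    rw [h, hσ]
  exfalso
  have hinj : Function.Injective (stalkHom (ψ - σ) (genericPoint X)) := by
    refine (LinearMap.injective_or_eq_zero (stalkHom (ψ - σ) (genericPoint X))).resolve_right fun h0 => ?_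
    have hz : ψ - σ = 0 := eq_zero_of_stalkHom φ hMc hMt _ h0
    rw [hz] at h
    have h01 : (𝟙 M : M ⟶ M) = 0 := (cancel_mono (0 : M ⟶ M)).1 (by rw [comp_zero, comp_zero])
    exact one_ne_zero (α := End M') (show (𝟙 M' : M' ⟶ M') = 0 by
      rw [show (𝟙 M' : M' ⟶ M') = (SheafOfModules.restrictScalars φ).map (𝟙 M) from
        ((SheafOfModules.restrictScalars φ).map_id M).symm, h01, Functor.map_zero])
  have hcomp := injective_of_stalkHom φ hMc hMt (ψ - σ) hinj
  have hd : f - algebraMap k (End M') c = (SheafOfModules.restrictScalars φ).map (ψ - σ) := by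
    rw [Functor.map_sub, Algebra.algebraMap_eq_smul_one]
    refine congrArg (fun g : M' ⟶ M' => (SheafOfModules.restrictScalars φ).map ψ - g) ?_
    refine Scheme.Modules.hom_ext _ _ fun U => ?_
    ext m
    refine (KLin.smul_app_apply c (𝟙 M') U m).trans ?_
    exact ((hσ (op U) m)).symm
  have hQf : Polynomial.aeval f Q = (0 : End M') := by
    have h0 : (f - algebraMap k (End M') c) * Polynomial.aeval f Q = 0 := by
      have := minpoly.aeval k f
      rwa [hQ, map_mul, map_sub, Polynomial.aeval_X, Polynomial.aeval_C] at this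
    rw [hd] at h0
    refine Scheme.Modules.hom_ext _ _ fun U => ?_
    ext m
    refine hcomp (op U) ?_
    have h1 := congrArg (fun g : M' ⟶ M' => g.app U m) h0
    exact h1.trans (map_zero ((ψ - σ).val.app (op U)).hom).symm
  have hQ0 : Q ≠ 0 := fun h0 => minpoly.ne_zero hint (by rw [hQ, h0, mul_zero])
  have hdeg := minpoly.degree_le_of_ne_zero k f hQ0 hQf
  rw [hQ, Polynomial.degree_mul, Polynomial.degree_X_sub_C, Polynomial.degree_eq_natDegree hQ0] at hdeg
  norm_cast at hdeg
  omega

end Groth.Agent.OrdSimple
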