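import Groth.Agent.OrdSimple.Basic
import Groth.Agent.QCoh.LocFree
import Groth.Agent.QCoh.Stalk
import Mathlib

/-!
# Stalks of modules over a sheaf of algebras
-/

set_option autoImplicit false
set_option linter.style.haveILetI false
set_option backward.isDefEq.respectTransparency false
set_option backward.isDefEq.respectTransparency.types false

universe u

open CategoryTheory CategoryTheory.Limits AlgebraicGeometry TopologicalSpace Opposite

namespace Groth.Agent.OrdSimple

variable {X : Scheme.{u}} {A : Sheaf (Opens.grothendieckTopology X) RingCat.{u}} (φ : X.ringCatSheaf ⟶ A)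

/-- The sheaf of algebras as a module over the structure sheaf. -/
noncomputable abbrev algMod : X.Modules := (SheafOfModules.restrictScalars φ).obj (SheafOfModules.unit A)

/-- A module over the algebra as a module over the structure sheaf. -/
noncomputable abbrev res (M : SheafOfModules.{u} A) : X.Modules := (SheafOfModules.restrictScalars φ).obj M

theorem exists_theta (x : X) :
    ∃ θ : (algMod φ).presheaf.stalk x →+ ↑(TopCat.Presheaf.stalk (C := RingCat.{u}) (X := X.carrier) A.obj x),
      Function.Bijective θ ∧ ∀ (U : X.Opens) (hx : x ∈ U) (a : A.obj.obj (op U)),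
        θ ((algMod φ).presheaf.germ U x hx a) =
          TopCat.Presheaf.germ (C := RingCat.{u}) (X := X.carrier) A.obj U x hx a := by
  let c : Cocone ((OpenNhds.inclusion x).op ⋙ (algMod φ).presheaf) :=
    { pt := AddCommGrpCat.of ↑(TopCat.Presheaf.stalk (C := RingCat.{u}) (X := X.carrier) A.obj x)
      ι :=
        { app := fun U => AddCommGrpCat.ofHom
            (TopCat.Presheaf.germ (C := RingCat.{u}) (X := X.carrier) A.obj (U.unop).1 x (U.unop).2).hom.toAddMonoidHom
          naturality := fun U V i => by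
            refine AddCommGrpCat.hom_ext (AddMonoidHom.ext fun a => ?_)
            exact TopCat.Presheaf.germ_res_apply (C := RingCat.{u}) (X := X.carrier) A.obj (homOfLE i.unop.le) x (V.unop).2 a } }
  let θ := colimit.desc _ c
  have hθ : ∀ (U : X.Opens) (hx : x ∈ U) (a : A.obj.obj (op U)),
      θ.hom ((algMod φ).presheaf.germ U x hx a) =
        TopCat.Presheaf.germ (C := RingCat.{u}) (X := X.carrier) A.obj U x hx a := by
    intro U hx a
    have h := ConcreteCategory.congr_hom (colimit.ι_desc c (op ⟨U, hx⟩)) a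
    rw [CategoryTheory.comp_apply] at h
    exact h
  refine ⟨θ.hom, ⟨(injective_iff_map_eq_zero _).2 fun q hq => ?_, fun a => ?_⟩, hθ⟩
  · obtain ⟨U, hx, a, rfl⟩ := TopCat.Presheaf.exists_germ_eq (algMod φ).presheaf q
    have hq' : TopCat.Presheaf.germ (C := RingCat.{u}) (X := X.carrier) A.obj U x hx a =
        TopCat.Presheaf.germ (C := RingCat.{u}) (X := X.carrier) A.obj U x hx 0 := by
      rw [map_zero]
      exact (hθ U hx a).symm.trans hq
    obtain ⟨W, hxW, i₁, i₂, hW⟩ := TopCat.Presheaf.germ_eq (C := RingCat.{u}) (X := X.carrier) A.obj x hx hx _ _ hq'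
    rw [map_zero] at hW
    rw [← (algMod φ).presheaf.germ_res_apply i₁ x hxW]
    exact (congrArg ((algMod φ).presheaf.germ W x hxW) hW).trans (map_zero _)
  · obtain ⟨U, hx, b, rfl⟩ := TopCat.Presheaf.exists_germ_eq (C := RingCat.{u}) (X := X.carrier) A.obj a
    exact ⟨_, hθ U hx b⟩

/-- The action of a germ of a function is the action of a germ of the algebra. -/
theorem exists_alg_germ (x : X) (r : X.presheaf.stalk x) (M : SheafOfModules.{u} A)
    (θ : (algMod φ).presheaf.stalk x →+ ↑(TopCat.Presheaf.stalk (C := RingCat.{u}) (X := X.carrier) A.obj x))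
    (hθ : ∀ (U : X.Opens) (hx : x ∈ U) (a : A.obj.obj (op U)),
        θ ((algMod φ).presheaf.germ U x hx a) =
          TopCat.Presheaf.germ (C := RingCat.{u}) (X := X.carrier) A.obj U x hx a) :
    ∃ a : ↑(TopCat.Presheaf.stalk (C := RingCat.{u}) (X := X.carrier) A.obj x),
      (∀ v : ↑(TopCat.Presheaf.stalk (C := Ab.{u}) (X := X.carrier) M.val.presheaf x),
        (HSMul.hSMul r (show (res φ M).presheaf.stalk x from v) : (res φ M).presheaf.stalk x) = a • v) ∧
      ∀ q : (algMod φ).presheaf.stalk x, θ (r • q) = a * θ q := by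
  obtain ⟨U, hxU, s, rfl⟩ := TopCat.Presheaf.exists_germ_eq X.presheaf r
  refine ⟨TopCat.Presheaf.germ (C := RingCat.{u}) (X := X.carrier) A.obj U x hxU (φ.hom.app (op U) s),
    fun v => ?_, fun q => ?_⟩
  · obtain ⟨W, hxW, m, rfl⟩ := TopCat.Presheaf.exists_germ_eq (C := Ab.{u}) (X := X.carrier) M.val.presheaf v
    have hx : x ∈ U ⊓ W := ⟨hxU, hxW⟩
    rw [← X.presheaf.germ_res_apply (homOfLE (inf_le_left : U ⊓ W ≤ U)) x hx s,
      ← TopCat.Presheaf.germ_res_apply (C := Ab.{u}) (X := X.carrier) M.val.presheaf (homOfLE (inf_le_right : U ⊓ W ≤ W)) x hx m,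
      ← TopCat.Presheaf.germ_res_apply (C := RingCat.{u}) (X := X.carrier) A.obj (homOfLE (inf_le_left : U ⊓ W ≤ U)) x hx (φ.hom.app (op U) s)]
    refine (QCoh.germ_smul' (res φ M) hx _ _).symm.trans ?_
    refine Eq.trans ?_ (PresheafOfModules.germ_ringCat_smul M.val x (U ⊓ W) hx _ _)
    refine congrArg (TopCat.Presheaf.germ (C := Ab.{u}) (X := X.carrier) M.val.presheaf (U ⊓ W) x hx) ?_
    exact congrArg (fun t : A.obj.obj (op (U ⊓ W)) =>
        HSMul.hSMul t (show M.val.obj (op (U ⊓ W)) from M.val.presheaf.map (homOfLE (inf_le_right : U ⊓ W ≤ W)).op m))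
      (ConcreteCategory.congr_hom (φ.hom.naturality (homOfLE (inf_le_left : U ⊓ W ≤ U)).op) s)
  · obtain ⟨W, hxW, m, rfl⟩ := TopCat.Presheaf.exists_germ_eq (algMod φ).presheaf q
    have hx : x ∈ U ⊓ W := ⟨hxU, hxW⟩
    rw [← X.presheaf.germ_res_apply (homOfLE (inf_le_left : U ⊓ W ≤ U)) x hx s,
      ← (algMod φ).presheaf.germ_res_apply (homOfLE (inf_le_right : U ⊓ W ≤ W)) x hx m,
      ← TopCat.Presheaf.germ_res_apply (C := RingCat.{u}) (X := X.carrier) A.obj (homOfLE (inf_le_left : U ⊓ W ≤ U)) x hx (φ.hom.app (op U) s)]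
    refine ((congrArg θ (QCoh.germ_smul' (algMod φ) hx _ _).symm).trans (hθ _ hx _)).trans ?_
    rw [hθ (U ⊓ W) hx]
    refine Eq.trans ?_ ((TopCat.Presheaf.germ (C := RingCat.{u}) (X := X.carrier) A.obj (U ⊓ W) x hx).hom.map_mul _
      (show A.obj.obj (op (U ⊓ W)) from (algMod φ).presheaf.map (homOfLE (inf_le_right : U ⊓ W ≤ W)).op m))
    refine congrArg (TopCat.Presheaf.germ (C := RingCat.{u}) (X := X.carrier) A.obj (U ⊓ W) x hx) ?_
    exact congrArg (fun t : A.obj.obj (op (U ⊓ W)) =>
        t * (show A.obj.obj (op (U ⊓ W)) from (algMod φ).presheaf.map (homOfLE (inf_le_right : U ⊓ W ≤ W)).op m))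
      (ConcreteCategory.congr_hom (φ.hom.naturality (homOfLE (inf_le_left : U ⊓ W ≤ U)).op) s)

/-- A module projective over the stalk of a locally free algebra is projective over the local ring. -/
theorem projective_res (hA : FlatMod.IsFinLocFree (algMod φ)) (M : SheafOfModules.{u} A) (x : X)
    [Module.Projective ↑(TopCat.Presheaf.stalk (C := RingCat.{u}) (X := X.carrier) A.obj x)
      ↑(TopCat.Presheaf.stalk (C := Ab.{u}) (X := X.carrier) M.val.presheaf x)] :
    Module.Projective (X.presheaf.stalk x) ((res φ M).presheaf.stalk x) := by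
  classical
  obtain ⟨θ, hθb, hθ⟩ := exists_theta φ x
  let e := AddEquiv.ofBijective θ hθb
  let Ax := ↑(TopCat.Presheaf.stalk (C := RingCat.{u}) (X := X.carrier) A.obj x)
  let Mx := ↑(TopCat.Presheaf.stalk (C := Ab.{u}) (X := X.carrier) M.val.presheaf x)
  obtain ⟨s, hs⟩ := (Module.projective_def' (R := Ax) (P := Mx)).1 ‹_›
  haveI := QCoh.free_stalk_of_isFinLocFree hA x
  let π : (Mx →₀ (algMod φ).presheaf.stalk x) →ₗ[X.presheaf.stalk x] (res φ M).presheaf.stalk x :=
    { toFun := fun f => (Finsupp.linearCombination Ax (id : Mx → Mx) (f.mapRange e (map_zero e)) : Mx)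
      map_add' := fun f g => by rw [Finsupp.mapRange_add (fun a b => map_add e a b), map_add]
      map_smul' := fun r f => by
        obtain ⟨a, ha, ha'⟩ := exists_alg_germ φ x r M θ hθ
        have h1 : (r • f).mapRange e (map_zero e) = a • f.mapRange e (map_zero e) := Finsupp.ext fun i => by
          rw [Finsupp.mapRange_apply, Finsupp.smul_apply, Finsupp.smul_apply, Finsupp.mapRange_apply]
          exact ha' (f i)
        rw [RingHom.id_apply, h1, map_smul]
        exact (ha _).symm }
  let ι : (res φ M).presheaf.stalk x →ₗ[X.presheaf.stalk x] Mx →₀ (algMod φ).presheaf.stalk x :=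
    { toFun := fun v => (s (show Mx from v)).mapRange e.symm (map_zero e.symm)
      map_add' := fun v w => by
        rw [show (s (show Mx from v + w)) = s (show Mx from v) + s (show Mx from w) from map_add s _ _,
          Finsupp.mapRange_add (fun a b => map_add e.symm a b)]
      map_smul' := fun r v => by
        obtain ⟨a, ha, ha'⟩ := exists_alg_germ φ x r M θ hθ
        rw [RingHom.id_apply, show (show Mx from r • v) = a • (show Mx from v) from ha v, map_smul]
        refine Finsupp.ext fun i => e.injective ?_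
        rw [Finsupp.mapRange_apply, Finsupp.smul_apply, Finsupp.smul_apply, Finsupp.mapRange_apply,
          AddEquiv.apply_symm_apply]
        refine (Eq.trans (ha' _) ?_).symm
        exact congrArg (fun t => a * t) (e.apply_symm_apply _) }
  refine Module.Projective.of_split ι π (LinearMap.ext fun v => ?_)
  show Finsupp.linearCombination Ax (id : Mx → Mx) (((s (show Mx from v)).mapRange e.symm (map_zero e.symm)).mapRange e (map_zero e)) = _
  rw [show ((s (show Mx from v)).mapRange e.symm (map_zero e.symm)).mapRange e (map_zero e) = s (show Mx from v) from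
    Finsupp.ext fun i => by simp]
  exact LinearMap.congr_fun hs v

end Groth.Agent.OrdSimple
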